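import Cfsg.Agent.Lib.Coprime.Action
import Mathlib.GroupTheory.QuotientGroup.Basic
import Mathlib.GroupTheory.PGroup
import Mathlib.Algebra.BigOperators.Group.Finset.Basic
import Mathlib.GroupTheory.Complement
import Mathlib.RingTheory.Int.Basic
import Mathlib.Tactic.Group
import Mathlib.Tactic.Ring

/-!
# The order formula for an elementary abelian group of order `p ^ 2` acting coprimely

`|K| * |C_K(A)| ^ n = |C_K(A)| * ∏ |C_K(B)|`, the product over the `n` subgroups `B` of order `p`
of `A`.
-/

set_option autoImplicit false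
set_option linter.style.haveILetI false

namespace Cfsg.Agent.Signalizer

open scoped commutatorElement IsMulCommutative
set_option linter.unusedSectionVars false

section Abstract

variable {A : Type*} [Group A]

/-- The fixed points in `M` of `B`. -/
def fixedBy {M : Type*} [Group M] (φ : A →* MulAut M) (B : Subgroup A) : Subgroup M where
  carrier := {m | ∀ x ∈ B, φ x m = m}
  one_mem' := fun x _ => map_one (φ x)
  mul_mem' := fun ha hb x hx => by rw [map_mul, ha x hx, hb x hx]
  inv_mem' := fun ha x hx => by rw [map_inv, ha x hx]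

theorem mem_fixedBy {M : Type*} [Group M] {φ : A →* MulAut M} {B : Subgroup A} {m : M} :
    m ∈ fixedBy φ B ↔ ∀ x ∈ B, φ x m = m := Iff.rfl

theorem fixedBy_anti {M : Type*} [Group M] {φ : A →* MulAut M} {B B' : Subgroup A} (h : B ≤ B') :
    fixedBy φ B' ≤ fixedBy φ B := fun _ hm x hx => hm x (h hx)

variable [Finite A] {p : ℕ} [hp : Fact p.Prime]

/-- The product over `B` of the images of `m`. -/
noncomputable def normMap {M : Type*} [CommGroup M] (φ : A →* MulAut M) (B : Subgroup A) (m : M) :
    M :=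
  ∏ᶠ x : B, φ x m

theorem normMap_eq_prod {M : Type*} [CommGroup M] (φ : A →* MulAut M) (B : Subgroup A) [Fintype B]
    (m : M) : normMap φ B m = ∏ x : B, φ x m := finprod_eq_prod_of_fintype _

theorem normMap_mul {M : Type*} [CommGroup M] (φ : A →* MulAut M) (B : Subgroup A) (m m' : M) :
    normMap φ B (m * m') = normMap φ B m * normMap φ B m' := by
  letI := Fintype.ofFinite B
  simp [normMap_eq_prod, Finset.prod_mul_distrib]

/-- `normMap` as a homomorphism. -/
noncomputable def normHom {M : Type*} [CommGroup M] (φ : A →* MulAut M) (B : Subgroup A) :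
    M →* M := MonoidHom.mk' (normMap φ B) (normMap_mul φ B)

theorem normHom_mem {M : Type*} [CommGroup M] (φ : A →* MulAut M) (B : Subgroup A) (m : M) :
    normHom φ B m ∈ fixedBy φ B := by
  letI := Fintype.ofFinite B
  intro y hy
  show φ y (normMap φ B m) = normMap φ B m
  rw [normMap_eq_prod, map_prod]
  refine Fintype.prod_equiv (Equiv.mulLeft (⟨y, hy⟩ : B)) _ _ fun x => ?_
  simp [map_mul]

theorem normHom_of_mem {M : Type*} [CommGroup M] (φ : A →* MulAut M) (B : Subgroup A) {m : M}
    (hm : m ∈ fixedBy φ B) : normHom φ B m = m ^ Nat.card B := by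
  letI := Fintype.ofFinite B
  show normMap φ B m = _
  rw [normMap_eq_prod, Finset.prod_congr rfl (fun (x : B) _ => hm x x.2), Finset.prod_const,
    Finset.card_univ, Nat.card_eq_fintype_card]

/-- If `B ⊓ B' = ⊥` and `|B| |B'| = |A|`, the norm over `A` is the product of the two norms. -/
theorem normHom_top {M : Type*} [CommGroup M] (φ : A →* MulAut M) {B B' : Subgroup A}
    (hd : B ⊓ B' = ⊥) (hc : Nat.card B * Nat.card B' = Nat.card A) (m : M) :
    normHom φ ⊤ m = normHom φ B (normHom φ B' m) := by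
  letI := Fintype.ofFinite B
  letI := Fintype.ofFinite B'
  letI := Fintype.ofFinite (⊤ : Subgroup A)
  show normMap φ ⊤ m = normMap φ B (normMap φ B' m)
  simp only [normMap_eq_prod, map_prod]
  rw [← Fintype.prod_prod_type']
  have hinj : Function.Injective fun x : B × B' => (⟨(x.1 : A) * x.2, Subgroup.mem_top _⟩ :
      (⊤ : Subgroup A)) := fun x y h =>
    Subgroup.mul_injective_of_disjoint (disjoint_iff.mpr hd) (congrArg Subtype.val h)
  refine (Fintype.prod_bijective _ ((Fintype.bijective_iff_injective_and_card _).mpr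
    ⟨hinj, ?_⟩) _ _ fun x => ?_).symm
  · rw [← Nat.card_eq_fintype_card, ← Nat.card_eq_fintype_card, Nat.card_prod, hc,
      Subgroup.card_top]
  · simp [map_mul]

/-- The formula for abelian groups of order prime to `p`. -/
theorem card_mul_abelian (hA : Nat.card A = p ^ 2) (hexp : ∀ x : A, x ^ p = 1)
    {M : Type*} [CommGroup M] [Finite M] (φ : A →* MulAut M) (hM : p.Coprime (Nat.card M))
    (ℬ : Finset (Subgroup A)) (hℬ : ∀ B, B ∈ ℬ ↔ Nat.card B = p) :
    Nat.card M * Nat.card (fixedBy φ ⊤) ^ ℬ.card =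
      Nat.card (fixedBy φ ⊤) * ∏ B ∈ ℬ, Nat.card (fixedBy φ B) := by
  classical
  have hpp : p.Prime := hp.out
  have hpow : ∀ k : ℕ, Function.Injective fun m : M => m ^ p ^ k := fun k =>
    (powCoprime (G := M) ((hM.pow_left k).symm)).injective
  have hne : ∀ B B' : Subgroup A, Nat.card B = p → Nat.card B' = p → B ≠ B' → B ⊓ B' = ⊥ := by
    intro B B' hB hB' hne
    have hd : Nat.card ↥(B ⊓ B') ∣ p := hB ▸ Subgroup.card_dvd_of_le inf_le_left
    rcases (Nat.dvd_prime hpp).mp hd with h | h
    · exact Subgroup.eq_bot_of_card_eq _ h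
    · have e1 := Subgroup.eq_of_le_of_card_ge (inf_le_left : B ⊓ B' ≤ B) (by rw [h, hB])
      have e2 := Subgroup.eq_of_le_of_card_ge (inf_le_right : B ⊓ B' ≤ B') (by rw [h, hB'])
      exact absurd (e1.symm.trans e2) hne
  let C0 := fixedBy φ (⊤ : Subgroup A)
  let D : Subgroup A → Subgroup M := fun B => fixedBy φ B ⊓ (normHom φ ⊤).ker
  -- `C(B) = C(A) × D B`
  have hsplit : ∀ B : Subgroup A, Nat.card (fixedBy φ B) = Nat.card C0 * Nat.card (D B) := by
    intro B
    let f : fixedBy φ B →* C0 :=
      ((normHom φ ⊤).comp (fixedBy φ B).subtype).codRestrict C0 fun m => normHom_mem φ ⊤ m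
    have hf : Function.Surjective f := by
      intro c
      obtain ⟨d, hd⟩ := (powCoprime (G := C0) (n := p ^ 2)
        (((hM.pow_left 2).symm).coprime_dvd_left (Subgroup.card_subgroup_dvd_card C0))).surjective c
      refine ⟨⟨d, fixedBy_anti le_top d.2⟩, Subtype.ext ?_⟩
      show normHom φ ⊤ (d : M) = c
      rw [normHom_of_mem φ ⊤ d.2, Subgroup.card_top, hA, ← hd]
      rfl
    have hk : Nat.card f.ker = Nat.card (D B) := by
      refine Nat.card_congr ⟨fun x => ⟨((x : fixedBy φ B) : M), x.1.2, ?_⟩,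
        fun x => ⟨⟨x, x.2.1⟩, ?_⟩, fun x => rfl, fun x => rfl⟩
      · exact congrArg Subtype.val (MonoidHom.mem_ker.mp x.2)
      · exact MonoidHom.mem_ker.mpr (Subtype.ext x.2.2)
    rw [← Subgroup.index_mul_card f.ker, Subgroup.index_ker, MonoidHom.range_eq_top.mpr hf,
      Subgroup.card_top, hk]
  -- the sum map
  let Φ : C0 × ((B : ℬ) → D B) →* M :=
    MonoidHom.mk' (fun x => (x.1 : M) * ∏ B : ℬ, (x.2 B : M)) (fun x y => by
      simp only [Prod.fst_mul, Prod.snd_mul, Pi.mul_apply, Subgroup.coe_mul,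
        Finset.prod_mul_distrib]
      exact mul_mul_mul_comm _ _ _ _)
  have hinj : Function.Injective Φ := by
    rw [injective_iff_map_eq_one]
    rintro ⟨c, d⟩ h
    have h' : (c : M) * ∏ B : ℬ, (d B : M) = 1 := h
    have hc : c = 1 := by
      have h1 := congrArg (normHom φ ⊤) h'
      rw [map_mul, map_prod, Finset.prod_eq_one (fun B _ => (MonoidHom.mem_ker.mp (d B).2.2)),
        mul_one, map_one, normHom_of_mem φ ⊤ c.2, Subgroup.card_top, hA] at h1
      exact Subtype.ext (hpow 2 (by simpa using h1))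
    subst hc
    have hd : d = 1 := funext fun B => by
      rw [Subgroup.coe_one, one_mul] at h'
      have h1 := congrArg (normHom φ B) h'
      rw [map_prod, map_one, Finset.prod_eq_single B] at h1
      · rw [normHom_of_mem φ _ (d B).2.1, (hℬ B).mp B.2] at h1
        exact Subtype.ext (hpow 1 (by simpa using h1))
      · intro B' _ hB'
        have hBB : (B : Subgroup A) ⊓ B' = ⊥ := hne _ _ ((hℬ B).mp B.2) ((hℬ B').mp B'.2)
          fun e => hB' (Subtype.ext e.symm)
        have h2 : normHom φ ⊤ (d B' : M) = (normHom φ B (d B' : M)) ^ p := by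
          rw [normHom_top φ hBB (by rw [(hℬ B).mp B.2, (hℬ B').mp B'.2, hA, sq]),
            normHom_of_mem φ _ (d B').2.1, (hℬ B').mp B'.2, map_pow]
        rw [MonoidHom.mem_ker.mp (d B').2.2] at h2
        exact hpow 1 (by simpa using h2.symm)
      · intro h; exact absurd (Finset.mem_univ _) h
    rw [hd]; rfl
  have hsurj : Function.Surjective Φ := by
    have hC : ∀ B : Subgroup A, Nat.card B = p → fixedBy φ B ≤ Φ.range := by
      intro B hB m hm
      obtain ⟨d, hd⟩ := (powCoprime (G := C0) (n := p ^ 2)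
        (((hM.pow_left 2).symm).coprime_dvd_left (Subgroup.card_subgroup_dvd_card C0))).surjective
          ⟨normHom φ ⊤ m, normHom_mem φ ⊤ m⟩
      have hd' : (d : M) ^ p ^ 2 = normHom φ ⊤ m := congrArg Subtype.val hd
      have hdm : m * (d : M)⁻¹ ∈ D B := by
        refine ⟨(fixedBy φ B).mul_mem hm ((fixedBy φ B).inv_mem (fixedBy_anti le_top d.2)), MonoidHom.mem_ker.mpr ?_⟩
        rw [map_mul, map_inv, normHom_of_mem φ ⊤ d.2, Subgroup.card_top, hA, hd', mul_inv_cancel]
      refine ⟨(d, Pi.mulSingle (⟨B, (hℬ B).mpr hB⟩ : ℬ) ⟨_, hdm⟩), ?_⟩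
      show (d : M) * ∏ B' : ℬ, ((Pi.mulSingle (⟨B, (hℬ B).mpr hB⟩ : ℬ)
        (⟨_, hdm⟩ : D B) : (B' : ℬ) → D B') B' : M) = m
      rw [Finset.prod_eq_single (⟨B, (hℬ B).mpr hB⟩ : ℬ) (fun B' _ hne' => by
        rw [Pi.mulSingle_eq_of_ne hne']; rfl) (fun h => absurd (Finset.mem_univ _) h),
        Pi.mulSingle_eq_same]
      exact mul_left_comm (d : M) m _ |>.trans (by simp)
    intro m
    -- generators of `A`
    obtain ⟨a, ha⟩ : ∃ a : A, a ≠ 1 := by
      haveI : Nontrivial A := Finite.one_lt_card_iff_nontrivial.mp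
        (hA ▸ Nat.one_lt_pow two_ne_zero hpp.one_lt)
      exact exists_ne 1
    have hza : Nat.card (Subgroup.zpowers a) = p := by
      rw [Nat.card_zpowers]; exact orderOf_eq_prime (hexp a) ha
    obtain ⟨b, hb⟩ : ∃ b : A, b ∉ Subgroup.zpowers a := by
      by_contra hall
      simp only [not_exists, not_not] at hall
      have : Subgroup.zpowers a = ⊤ := eq_top_iff.mpr fun x _ => hall x
      rw [this, Subgroup.card_top, hA] at hza
      exact (Nat.lt_irrefl p) (by nlinarith [hpp.two_le])
    haveI : IsMulCommutative A := IsPGroup.isMulCommutative_of_card_eq_prime_sq hA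
    let B : Fin p → Subgroup A := fun i => Subgroup.zpowers (a ^ (i : ℕ) * b)
    have hB : ∀ i, Nat.card (B i) = p := fun i => by
      rw [Nat.card_zpowers]
      refine orderOf_eq_prime (hexp _) fun h => hb ?_
      have : b = (a ^ (i : ℕ))⁻¹ := eq_inv_of_mul_eq_one_right h
      rw [this]; exact inv_mem (Subgroup.npow_mem_zpowers a _)
    have hexpand : ∀ (x : A), orderOf x = p → ∀ m : M,
        normHom φ (Subgroup.zpowers x) m = ∏ j ∈ Finset.range p, φ (x ^ j) m := by
      intro x hx m
      letI := Fintype.ofFinite (Subgroup.zpowers x)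
      show normMap φ _ m = _
      rw [normMap_eq_prod, Finset.prod_range]
      exact (Fintype.prod_equiv ((finCongr hx.symm).trans (finEquivZPowers
        (isOfFinOrder_of_finite x))) _ _ fun j => by simp [finEquivZPowers_apply]).symm
    have key : m ^ p = (∏ i : Fin p, normHom φ (B i) m) *
        (∏ j ∈ Finset.range (p - 1), φ (b ^ (j + 1)) (normHom φ (Subgroup.zpowers a) m))⁻¹ := by
      rw [eq_mul_inv_iff_mul_eq]
      have h1 : ∀ i : Fin p, normHom φ (B i) m =
          m * ∏ j ∈ Finset.range (p - 1), φ ((a ^ (i : ℕ) * b) ^ (j + 1)) m := by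
        intro i
        have ho : orderOf (a ^ (i : ℕ) * b) = p := by rw [← Nat.card_zpowers]; exact hB i
        rw [hexpand _ ho]
        obtain ⟨k, hk⟩ : ∃ k, p = k + 1 := ⟨p - 1, by have := hpp.pos; omega⟩
        rw [show p - 1 = k by omega, show Finset.range p = Finset.range (k + 1) by rw [hk],
          Finset.prod_range_succ']
        simp [mul_comm]
      rw [Finset.prod_congr rfl (fun i _ => h1 i), Finset.prod_mul_distrib, Finset.prod_const,
        Finset.card_univ, Fintype.card_fin, Finset.prod_comm]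
      refine congrArg (m ^ p * ·) (Finset.prod_congr rfl fun j hj => ?_)
      rw [Finset.mem_range] at hj
      rw [hexpand a (orderOf_eq_prime (hexp a) ha), map_prod]
      -- reindex `i ↦ i (j + 1) mod p`
      have hcop : (j + 1).Coprime p :=
        (hpp.coprime_iff_not_dvd.mpr (Nat.not_dvd_of_pos_of_lt (by omega) (by omega))).symm
      let e : Fin p → Fin p := fun i => ⟨(i * (j + 1)) % p, Nat.mod_lt _ hpp.pos⟩
      have he : Function.Bijective e := by
        rw [Finite.injective_iff_bijective.symm]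
        intro x y hxy
        have hm : (x : ℕ) * (j + 1) ≡ (y : ℕ) * (j + 1) [MOD p] := congrArg Fin.val hxy
        exact Fin.ext (Nat.ModEq.eq_of_lt_of_lt
          (Nat.ModEq.cancel_right_of_coprime hcop.symm hm) x.2 y.2)
      rw [Finset.prod_range, ← he.prod_comp]
      refine Finset.prod_congr rfl fun i _ => ?_
      have hpm : a ^ (((e i : Fin p) : ℕ)) = a ^ ((i : ℕ) * (j + 1)) := by
        show a ^ ((i : ℕ) * (j + 1) % p) = _
        conv_rhs => rw [← Nat.mod_add_div ((i : ℕ) * (j + 1)) p, pow_add, pow_mul, hexp, one_pow,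
          mul_one]
      rw [hpm, ← MulAut.mul_apply, ← map_mul, mul_pow, ← pow_mul,
        mul_comm (b ^ (j + 1))]
    have hmem : m ^ p ∈ Φ.range := by
      rw [key]
      refine mul_mem (prod_mem fun i _ => hC _ (hB i) (normHom_mem φ _ m))
        (inv_mem (prod_mem fun j _ => hC _ hza ?_))
      intro x hx
      rw [← MulAut.mul_apply, ← map_mul, mul_comm' x, map_mul, MulAut.mul_apply,
        normHom_mem φ _ m x hx]
    obtain ⟨u, hu⟩ := exists_pow_eq_self_of_coprime (x := m) (n := p)
      (hM.coprime_dvd_right (orderOf_dvd_natCard m))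
    exact hu ▸ pow_mem hmem u
  have hcard : Nat.card M = Nat.card C0 * ∏ B ∈ ℬ, Nat.card (D B) := by
    rw [← Nat.card_congr (MulEquiv.ofBijective Φ ⟨hinj, hsurj⟩).toEquiv, Nat.card_prod,
      Nat.card_pi, Finset.prod_coe_sort ℬ (fun B => Nat.card (D B))]
  have hprod : ∏ B ∈ ℬ, Nat.card (fixedBy φ B) =
      Nat.card C0 ^ ℬ.card * ∏ B ∈ ℬ, Nat.card (D B) := by
    rw [Finset.prod_congr rfl (fun B _ => hsplit B), Finset.prod_mul_distrib, Finset.prod_const]
  rw [hcard, hprod]
  ring

/-- The action induced on a characteristic subgroup. -/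
noncomputable def actSub {M : Type*} [Group M] (φ : A →* MulAut M) (Z : Subgroup M)
    [hZ : Z.Characteristic] : A →* MulAut Z where
  toFun x :=
    { toFun := fun z => ⟨φ x z, (Subgroup.characteristic_iff_map_eq.mp hZ (φ x)).le ⟨z, z.2, rfl⟩⟩
      invFun := fun z => ⟨φ x⁻¹ z, (Subgroup.characteristic_iff_map_eq.mp hZ (φ x⁻¹)).le
        ⟨z, z.2, rfl⟩⟩
      left_inv := fun z => by ext; simp
      right_inv := fun z => by ext; simp
      map_mul' := fun a b => by ext; simp }
  map_one' := by ext; simp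
  map_mul' x y := by ext; simp

/-- The action induced on a characteristic quotient. -/
noncomputable def actQuot {M : Type*} [Group M] (φ : A →* MulAut M) (Z : Subgroup M) [Z.Normal]
    [hZ : Z.Characteristic] : A →* MulAut (M ⧸ Z) where
  toFun x := QuotientGroup.congr Z Z (φ x) (Subgroup.characteristic_iff_map_eq.mp hZ (φ x))
  map_one' := by
    refine MulEquiv.ext fun z => ?_
    induction z using QuotientGroup.induction_on with
    | H l => simp
  map_mul' x y := by
    refine MulEquiv.ext fun z => ?_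
    induction z using QuotientGroup.induction_on with
    | H l => simp only [map_mul, MulAut.mul_apply]; rfl

/-- A fixed point modulo the centre lifts to a fixed point. -/
theorem exists_fixed_lift {M : Type*} [Group M] [Finite M] (φ : A →* MulAut M) (B : Subgroup A)
    (hcop : (Nat.card B).Coprime (Nat.card M)) (m : M)
    (hm : ∀ x ∈ B, m⁻¹ * φ x m ∈ Subgroup.center M) :
    ∃ w ∈ Subgroup.center M, m * w ∈ fixedBy φ B := by
  classical
  letI := Fintype.ofFinite B
  set Z := Subgroup.center M
  let ψ := actSub φ Z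
  let z : B → Z := fun x => ⟨m⁻¹ * φ x m, hm x x.2⟩
  have hcocycle : ∀ x y : B, z (x * y) = z x * ψ x (z y) := fun x y => Subtype.ext (by
    show m⁻¹ * φ ((x * y : B) : A) m = m⁻¹ * φ x m * φ x (m⁻¹ * φ y m)
    simp [map_mul, mul_assoc])
  obtain ⟨k, hk⟩ := exists_pow_eq_self_of_coprime (x := (∏ y : B, z y)) (n := Nat.card B)
    (hcop.coprime_dvd_right ((orderOf_dvd_natCard _).trans (Subgroup.card_subgroup_dvd_card Z)))
  set S := ∏ y : B, z y with hS
  refine ⟨(S ^ k : Z), (S ^ k).2, fun x hx => ?_⟩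
  let xB : B := ⟨x, hx⟩
  have hψS : ψ x S = (z xB)⁻¹ ^ Nat.card B * S := by
    have e1 : ∀ y : B, ψ x (z y) = (z xB)⁻¹ * z (xB * y) := fun y => by
      rw [hcocycle, inv_mul_cancel_left]
    rw [hS, map_prod, Finset.prod_congr rfl (fun y _ => e1 y), Finset.prod_mul_distrib,
      Finset.prod_const, Finset.card_univ, Nat.card_eq_fintype_card]
    congr 1
    exact Fintype.prod_equiv (Equiv.mulLeft xB) _ _ fun y => rfl
  obtain ⟨j, hj⟩ := exists_pow_eq_self_of_coprime (x := z xB) (n := Nat.card B)
      (hcop.coprime_dvd_right ((orderOf_dvd_natCard _).trans (Subgroup.card_subgroup_dvd_card Z)))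
  have e2 : ((z xB) ^ Nat.card B) ^ k = z xB := by
    -- apply `ψ x` to `(S ^ n) ^ k = S`
    have h3 : ((z xB)⁻¹ ^ Nat.card B * S) ^ (Nat.card B * k) = (z xB)⁻¹ ^ Nat.card B * S := by
      rw [← hψS, pow_mul, ← map_pow, ← map_pow, hk]
    rw [mul_pow, pow_mul, pow_mul, hk, mul_left_inj, inv_pow, inv_pow, inv_pow, inv_inj,
      ← pow_mul, ← pow_mul] at h3
    have h4 : ((z xB) ^ Nat.card B) ^ (j * (Nat.card B * k)) = ((z xB) ^ Nat.card B) ^ j := by
      rw [mul_comm j, pow_mul, ← pow_mul (z xB) (Nat.card B), h3]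
    rw [hj, ← pow_mul] at h4
    calc ((z xB) ^ Nat.card B) ^ k = (((z xB) ^ Nat.card B) ^ j) ^ (Nat.card B * k) := by
          rw [hj, ← pow_mul]
      _ = z xB := by rw [← pow_mul, ← pow_mul, h4]
  show φ x (m * ((S ^ k : Z) : M)) = m * ((S ^ k : Z) : M)
  rw [map_mul]
  have hz : φ x m = m * (z xB : M) := by simp [z, xB]
  have hw : φ x ((S ^ k : Z) : M) = ((ψ x (S ^ k) : Z) : M) := rfl
  rw [hz, hw, map_pow, hψS, mul_pow, mul_assoc, ← Subgroup.coe_mul, ← mul_assoc (z xB)]
  rw [inv_pow, inv_pow, e2, mul_inv_cancel, one_mul]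

/-- The formula for `q`-groups. -/
theorem card_mul_pGroup (hA : Nat.card A = p ^ 2) (hexp : ∀ x : A, x ^ p = 1) {q : ℕ}
    [hq : Fact q.Prime] (hpq : p ≠ q) {M : Type*} [Group M] [Finite M] (φ : A →* MulAut M)
    (hM : IsPGroup q M) (ℬ : Finset (Subgroup A)) (hℬ : ∀ B, B ∈ ℬ ↔ Nat.card B = p) :
    Nat.card M * Nat.card (fixedBy φ ⊤) ^ ℬ.card =
      Nat.card (fixedBy φ ⊤) * ∏ B ∈ ℬ, Nat.card (fixedBy φ B) := by
  induction hn : Nat.card M using Nat.strong_induction_on generalizing M with
  | _ n IH =>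
  subst hn
  by_cases hM1 : Subsingleton M
  · have h1 : ∀ S : Subgroup M, Nat.card S = 1 := fun S => Nat.card_eq_one_iff_unique.mpr
      ⟨inferInstance, inferInstance⟩
    simp
  haveI : Nontrivial M := not_subsingleton_iff_nontrivial.mp hM1
  set Z := Subgroup.center M with hZ
  haveI : Nontrivial Z := hM.center_nontrivial
  obtain ⟨e, he⟩ := IsPGroup.iff_card.mp hM
  have hcopM : p.Coprime (Nat.card M) := by
    rw [he]; exact ((Nat.coprime_primes hp.out hq.out).mpr hpq).pow_right e
  have hsplit : ∀ B : Subgroup A, Nat.card (fixedBy φ B) =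
      Nat.card (fixedBy (actSub φ Z) B) * Nat.card (fixedBy (actQuot φ Z) B) := by
    intro B
    let f : fixedBy φ B →* fixedBy (actQuot φ Z) B :=
      ((QuotientGroup.mk' Z).comp (fixedBy φ B).subtype).codRestrict _ fun m x hx => by
        show QuotientGroup.mk' Z (φ x m) = QuotientGroup.mk' Z (m : M)
        rw [m.2 x hx]
    have hf : Function.Surjective f := by
      rintro ⟨y, hy⟩
      obtain ⟨m, rfl⟩ := QuotientGroup.mk'_surjective Z y
      have hcop : (Nat.card B).Coprime (Nat.card M) :=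
        (hcopM.pow_left 2).coprime_dvd_left (hA ▸ Subgroup.card_subgroup_dvd_card B)
      obtain ⟨w, hw, hmw⟩ := exists_fixed_lift φ B hcop m fun x hx =>
        (QuotientGroup.eq (s := Z)).mp (hy x hx).symm
      refine ⟨⟨m * w, hmw⟩, Subtype.ext ?_⟩
      show QuotientGroup.mk' Z (m * w) = QuotientGroup.mk' Z m
      rw [map_mul, show QuotientGroup.mk' Z w = 1 from (QuotientGroup.eq_one_iff w).mpr hw, mul_one]
    have hk : Nat.card f.ker = Nat.card (fixedBy (actSub φ Z) B) := by
      refine Nat.card_congr ⟨fun x => ⟨⟨((x : fixedBy φ B) : M), ?_⟩, ?_⟩,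
        fun x => ⟨⟨((x : Z) : M), ?_⟩, ?_⟩, fun x => rfl, fun x => rfl⟩
      · exact (QuotientGroup.eq_one_iff _).mp (congrArg Subtype.val (MonoidHom.mem_ker.mp x.2))
      · exact fun y hy => Subtype.ext (x.1.2 y hy)
      · exact fun y hy => congrArg Subtype.val (x.2 y hy)
      · exact MonoidHom.mem_ker.mpr (Subtype.ext ((QuotientGroup.eq_one_iff _).mpr (x : Z).2))
    rw [← Subgroup.index_mul_card f.ker, Subgroup.index_ker, MonoidHom.range_eq_top.mpr hf,
      Subgroup.card_top, hk, mul_comm]
  have h1 := card_mul_abelian hA hexp (actSub φ Z)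
    (hcopM.coprime_dvd_right (Subgroup.card_subgroup_dvd_card Z)) ℬ hℬ
  have hlt : Nat.card (M ⧸ Z) < Nat.card M := by
    rw [Subgroup.card_eq_card_quotient_mul_card_subgroup Z]
    exact lt_mul_of_one_lt_right Nat.card_pos Finite.one_lt_card
  have h2 := IH _ hlt (actQuot φ Z) (hM.to_quotient Z) rfl
  rw [Finset.prod_congr rfl (fun B _ => hsplit B), Finset.prod_mul_distrib, hsplit ⊤,
    Subgroup.card_eq_card_quotient_mul_card_subgroup Z, mul_pow]
  calc _ = (Nat.card Z * Nat.card (fixedBy (actSub φ Z) ⊤) ^ ℬ.card) *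
        (Nat.card (M ⧸ Z) * Nat.card (fixedBy (actQuot φ Z) ⊤) ^ ℬ.card) := by ring
    _ = _ := by rw [h1, h2]; ring

end Abstract

section Internal

variable {G : Type*} [Group G] [Finite G] {p : ℕ} [hp : Fact p.Prime]

/-- A `p'`-group and an invariant Sylow subgroup have fixed point groups of the same `q`-part. -/
theorem factorization_fixed (A B K : Subgroup G) [IsMulCommutative A] (hBA : B ≤ A)
    (hAK : A ≤ Subgroup.normalizer (K : Set G)) (hcop : (Nat.card A).Coprime (Nat.card K))
    {q : ℕ} [hq : Fact q.Prime] (P : Sylow q K)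
    (hP : A ≤ Subgroup.normalizer ((P : Subgroup K).map K.subtype : Set G)) :
    (Nat.card ↥((P : Subgroup K).map K.subtype ⊓ Subgroup.centralizer (B : Set G))).factorization q
      = (Nat.card ↥(K ⊓ Subgroup.centralizer (B : Set G))).factorization q := by
  set PG := (P : Subgroup K).map K.subtype with hPG
  set W := K ⊓ Subgroup.centralizer (B : Set G) with hW
  apply le_antisymm
  · exact (Nat.factorization_le_iff_dvd Nat.card_pos.ne' Nat.card_pos.ne').mpr
      (Subgroup.card_dvd_of_le (inf_le_inf_right _ (Subgroup.map_subtype_le _))) q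
  · have hBn : A ≤ Subgroup.normalizer (B : Set G) :=
      Coprime.le_normalizer_of_conj_mem fun a ha x hx => by
        rw [show a * x = x * a from congrArg Subtype.val
          (mul_comm' (⟨a, ha⟩ : A) ⟨x, hBA hx⟩), mul_inv_cancel_right]
        exact hx
    have hAW : A ≤ Subgroup.normalizer (W : Set G) :=
      Coprime.le_normalizer_inf hAK (Coprime.le_normalizer_centralizer hBn)
    obtain ⟨R, hR⟩ := Coprime.exists_invariant_sylow A W hAW
      (hcop.coprime_dvd_right (Subgroup.card_dvd_of_le inf_le_left)) (Or.inl inferInstance) q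
    set RG := (R : Subgroup W).map W.subtype with hRG
    obtain ⟨P', hP', hP'A⟩ := Coprime.exists_invariant_sylow_ge A K hAK hcop (Or.inl inferInstance) q
      RG ((Subgroup.map_subtype_le _).trans inf_le_left) (R.isPGroup'.map _) hR
    obtain ⟨c, hc, hcP⟩ := Coprime.exists_invariant_sylow_conj A K hAK hcop (Or.inl inferInstance) q
      P' P hP'A hP
    let g : G →* G := (MulAut.conj (c : G)).toMonoidHom
    have hle : RG.map g ≤ PG ⊓ Subgroup.centralizer (B : Set G) := by
      rintro _ ⟨r, hr, rfl⟩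
      refine ⟨?_, ?_⟩
      · obtain ⟨r', hr', rfl⟩ := hP' hr
        refine ⟨c * r' * c⁻¹, ?_, rfl⟩
        rw [← hcP]
        exact ⟨r', hr', rfl⟩
      · have hr2 : r ∈ Subgroup.centralizer (B : Set G) := by
          obtain ⟨w, -, rfl⟩ := hr
          exact w.2.2
        refine Subgroup.mem_centralizer_iff.mpr fun b hb => ?_
        have h1 : Commute b (c : G) := Subgroup.mem_centralizer_iff.mp hc b (hBA hb)
        have h2 : Commute b r := Subgroup.mem_centralizer_iff.mp hr2 b hb
        exact ((h1.mul_right h2).mul_right h1.inv_right).eq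
    have hcard : (Nat.card RG).factorization q = (Nat.card W).factorization q := by
      rw [hRG, Subgroup.card_map_of_injective W.subtype_injective, R.card_eq_multiplicity,
        hq.out.factorization_pow, Finsupp.single_eq_same]
    have hg : Function.Injective g := (MulAut.conj (c : G)).injective
    rw [← hcard, ← Nat.card_congr (RG.equivMapOfInjective g hg).symm.toEquiv]
    exact (Nat.factorization_le_iff_dvd Nat.card_pos.ne' Nat.card_pos.ne').mpr
      (Subgroup.card_dvd_of_le hle) q

/-- The order formula. -/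
theorem card_mul_fixed (A K : Subgroup G) [IsMulCommutative A] (hA : Nat.card A = p ^ 2)
    (hexp : ∀ x ∈ A, x ^ p = 1) (hK : ¬ p ∣ Nat.card K)
    (hAK : A ≤ Subgroup.normalizer (K : Set G)) (ℬ : Finset (Subgroup G))
    (hℬ : ∀ B, B ∈ ℬ ↔ B ≤ A ∧ Nat.card B = p) :
    Nat.card K * Nat.card ↥(K ⊓ Subgroup.centralizer (A : Set G)) ^ ℬ.card =
      Nat.card ↥(K ⊓ Subgroup.centralizer (A : Set G)) *
        ∏ B ∈ ℬ, Nat.card ↥(K ⊓ Subgroup.centralizer (B : Set G)) := by
  classical
  have hcop : (Nat.card A).Coprime (Nat.card K) := by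
    rw [hA]; exact (hp.out.coprime_iff_not_dvd.mpr hK).pow_left 2
  refine Nat.eq_of_factorization_eq (mul_ne_zero Nat.card_pos.ne' (pow_ne_zero _ Nat.card_pos.ne'))
    (mul_ne_zero Nat.card_pos.ne' (Finset.prod_ne_zero_iff.mpr fun _ _ => Nat.card_pos.ne'))
    fun q => ?_
  by_cases hq : q.Prime
  swap
  · simp [Nat.factorization_eq_zero_of_not_prime _ hq]
  haveI : Fact q.Prime := ⟨hq⟩
  obtain ⟨P, hP⟩ := Coprime.exists_invariant_sylow A K hAK hcop (Or.inl inferInstance) q
  set PG := (P : Subgroup K).map K.subtype with hPG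
  have hPp : IsPGroup q PG := P.isPGroup'.map _
  rcases eq_or_ne p q with hpq | hpq
  · subst hpq
    have h0 : ∀ S : Subgroup G, S ≤ K → (Nat.card S).factorization p = 0 := fun S hS =>
      Nat.factorization_eq_zero_of_not_dvd fun h => hK (h.trans (Subgroup.card_dvd_of_le hS))
    rw [Nat.factorization_mul Nat.card_pos.ne' (pow_ne_zero _ Nat.card_pos.ne'),
      Nat.factorization_mul Nat.card_pos.ne'
        (Finset.prod_ne_zero_iff.mpr fun _ _ => Nat.card_pos.ne'), Nat.factorization_pow,
      Nat.factorization_prod (fun _ _ => Nat.card_pos.ne')]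
    have hz : ∀ S : Subgroup G, (Nat.card ↥(K ⊓ S)).factorization p = 0 := fun S =>
      h0 _ inf_le_left
    simp only [Finsupp.coe_add, Pi.add_apply, Finsupp.coe_finsetSum, Finset.sum_apply,
      Finsupp.coe_smul, Pi.smul_apply, h0 K le_rfl, hz, smul_zero, Finset.sum_const_zero, add_zero]
  let φ : A →* MulAut PG := (Subgroup.normalizerMonoidHom PG).comp (Subgroup.inclusion hP)
  have hfix : ∀ B : Subgroup A, Nat.card (fixedBy φ B) =
      Nat.card ↥(PG ⊓ Subgroup.centralizer ((B.map A.subtype : Subgroup G) : Set G)) := by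
    intro B
    refine Nat.card_congr ⟨fun x => ⟨((x : PG) : G), (x : PG).2, ?_⟩,
      fun x => ⟨⟨x, x.2.1⟩, ?_⟩, fun x => rfl, fun x => rfl⟩
    · refine Subgroup.mem_centralizer_iff.mpr ?_
      rintro _ ⟨b, hb, rfl⟩
      exact mul_inv_eq_iff_eq_mul.mp (congrArg Subtype.val (x.2 b hb))
    · exact fun b hb => Subtype.ext (mul_inv_eq_iff_eq_mul.mpr
        (Subgroup.mem_centralizer_iff.mp x.2.2 b ⟨b, hb, rfl⟩))
  have hinj : Set.InjOn (fun B : Subgroup G => B.subgroupOf A) ℬ := fun B hB B' hB' h => by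
    have h' := congrArg (Subgroup.map A.subtype) h
    rwa [Subgroup.map_subgroupOf_eq_of_le ((hℬ B).mp hB).1,
      Subgroup.map_subgroupOf_eq_of_le ((hℬ B').mp hB').1] at h'
  have h := card_mul_pGroup (A := A) hA (fun x => Subtype.ext (by simpa using hexp x x.2)) hpq φ hPp
    (ℬ.image fun B => B.subgroupOf A) fun B => by
      rw [Finset.mem_image]
      constructor
      · rintro ⟨B', hB', rfl⟩
        rw [Nat.card_congr (Subgroup.subgroupOfEquivOfLe ((hℬ B').mp hB').1).toEquiv]
        exact ((hℬ B').mp hB').2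
      · intro hB
        refine ⟨B.map A.subtype, (hℬ _).mpr ⟨Subgroup.map_subtype_le _, ?_⟩, ?_⟩
        · rw [Subgroup.card_map_of_injective A.subtype_injective, hB]
        · rw [Subgroup.subgroupOf, Subgroup.comap_map_eq_self_of_injective A.subtype_injective]
  rw [Finset.card_image_of_injOn hinj, Finset.prod_image hinj, hfix, ← MonoidHom.range_eq_map,
    Subgroup.range_subtype] at h
  rw [Finset.prod_congr rfl (fun B hB => by
    rw [hfix, Subgroup.map_subgroupOf_eq_of_le ((hℬ B).mp hB).1])] at h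
  have hK' : (Nat.card PG).factorization q = (Nat.card K).factorization q := by
    rw [hPG, Subgroup.card_map_of_injective K.subtype_injective, P.card_eq_multiplicity,
      hq.factorization_pow, Finsupp.single_eq_same]
  have h' := congrArg (fun n => n.factorization q) h
  simp only [Nat.factorization_mul Nat.card_pos.ne' (pow_ne_zero _ Nat.card_pos.ne'),
    Nat.factorization_mul Nat.card_pos.ne'
      (Finset.prod_ne_zero_iff.mpr fun _ _ => Nat.card_pos.ne'), Nat.factorization_pow,
    Nat.factorization_prod (fun _ _ => Nat.card_pos.ne'), Finsupp.coe_add, Pi.add_apply,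
    Finsupp.coe_finsetSum, Finset.sum_apply, Finsupp.coe_smul, Pi.smul_apply] at h' ⊢
  rw [← hK', ← factorization_fixed A A K le_rfl hAK hcop P hP,
    Finset.sum_congr rfl (fun B hB => (factorization_fixed A B K ((hℬ B).mp hB).1 hAK hcop P
      hP).symm)]
  exact h'

end Internal

end Cfsg.Agent.Signalizer
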